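import Mathlib
import Groth.Agent.Lib.Helper36.FunctorCompletion
import Groth.Agent.Lib.Helper36.DerivedCompletionFormal
import Groth.Agent.Lib.Helper36.DerivedCompletionFormal2

/-!
# Iterated cones of scalar multiplications (Koszul-type complexes) (helper36)

Namespace `Groth.Agent.Lib.Helper36.DNak`.
-/

set_option autoImplicit false
set_option maxHeartbeats 400000
universe u
open CategoryTheory CategoryTheory.Limits CategoryTheory.Pretriangulated DerivedCategory
  CochainComplex
attribute [local instance] HasDerivedCategory.standard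

namespace Groth.Agent.Lib.Helper36.DNak

open Groth.Agent.Lib.Helper36.DC Groth.Agent.Lib.Helper36.DCF Groth.Agent.Lib.Helper36.FCo

variable {A : Type u} [CommRing A]

/-- iterated mapping cone of the multiplications by the elements of a list -/
noncomputable def kos : List A → DRing.Cx A → DRing.Cx A
  | [], X => X
  | f :: fs, X => mappingCone (f • 𝟙 (kos fs X))

@[simp] lemma kos_nil (X : DRing.Cx A) : kos [] X = X := rfl

lemma kos_cons (f : A) (fs : List A) (X : DRing.Cx A) :
    kos (f :: fs) X = mappingCone (f • 𝟙 (kos fs X)) := rfl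

/-- the distinguished triangle of a cone of a scalar multiplication -/
lemma exists_distTriang_cone_smul (f : A) (Y : DRing.Cx A) :
    ∃ (β : (Q.obj Y : Dual.D A) ⟶ Q.obj (mappingCone (f • 𝟙 Y)))
      (γ : (Q.obj (mappingCone (f • 𝟙 Y)) : Dual.D A) ⟶ (Q.obj Y)⟦(1 : ℤ)⟧),
      Triangle.mk (f • 𝟙 (Q.obj Y : Dual.D A)) β γ ∈ distTriang (Dual.D A) := by
  have h := DerivedCategory.mappingCone_triangle_distinguished (f • 𝟙 Y)
  have hfQ : (Q.map (f • 𝟙 Y) : (Q.obj Y : Dual.D A) ⟶ _) = f • 𝟙 _ := by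
    rw [Functor.map_smul, CategoryTheory.Functor.map_id]
  obtain ⟨u, β, γ, hu, hT⟩ : ∃ (u : (Q.obj Y : Dual.D A) ⟶ Q.obj Y)
      (β : (Q.obj Y : Dual.D A) ⟶ Q.obj (mappingCone (f • 𝟙 Y)))
      (γ : (Q.obj (mappingCone (f • 𝟙 Y)) : Dual.D A) ⟶ (Q.obj Y)⟦(1 : ℤ)⟧),
      u = Q.map (f • 𝟙 Y) ∧ Triangle.mk u β γ ∈ distTriang (Dual.D A) :=
    ⟨_, _, _, rfl, h⟩
  rw [hu, hfQ] at hT
  exact ⟨β, γ, hT⟩

/-- if a scalar acts as zero on the first two (equal) vertices, its square kills the cone -/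
lemma sq_smul_eq_zero_of_smul_eq_zero (a : A) {G C : Dual.D A} (u : G ⟶ G) (β : G ⟶ C)
    (γ : C ⟶ G⟦(1 : ℤ)⟧) (hT : Triangle.mk u β γ ∈ distTriang (Dual.D A))
    (ha : a • 𝟙 G = 0) : (a * a) • 𝟙 C = 0 := by
  have h1 : β ≫ (a • 𝟙 C) = 0 := by
    rw [Linear.comp_smul, Category.comp_id, ← Category.id_comp β, ← Linear.smul_comp, ha,
      zero_comp]
  obtain ⟨t, ht⟩ := Triangle.yoneda_exact₃ _ hT (a • 𝟙 C) h1
  dsimp only [Triangle.mk] at ht
  have h2 : a • γ = 0 := by
    have h3 : a • γ = γ ≫ (CategoryTheory.shiftFunctor (Dual.D A) (1 : ℤ)).map (a • 𝟙 G) := by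
      rw [Functor.map_smul, CategoryTheory.Functor.map_id, Linear.comp_smul, Category.comp_id]
    rw [h3, ha, Functor.map_zero, comp_zero]
  rw [mul_smul, ht, ← Linear.smul_comp, h2, zero_comp]

/-- the vertices of a distinguished triangle with two zero vertices -/
lemma isZero_obj₃_of_isZero {G C : Dual.D A} (u : G ⟶ G) (β : G ⟶ C)
    (γ : C ⟶ G⟦(1 : ℤ)⟧) (hT : Triangle.mk u β γ ∈ distTriang (Dual.D A)) (hG : IsZero G) :
    IsZero C := by
  have h := (Triangle.isZero₃_iff_isIso₁ _ hT).2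
  exact h ⟨⟨0, hG.eq_of_src _ _, hG.eq_of_src _ _⟩⟩

/-- `kos` of an acyclic complex is acyclic -/
lemma isZero_Q_kos (fs : List A) (X : DRing.Cx A) (hX : IsZero (Q.obj X : Dual.D A)) :
    IsZero (Q.obj (kos fs X) : Dual.D A) := by
  induction fs with
  | nil => exact hX
  | cons f fs ih =>
    obtain ⟨β, γ, hT⟩ := exists_distTriang_cone_smul f (kos fs X)
    exact isZero_obj₃_of_isZero _ β γ hT ih

/-- every element of the list acts nilpotently on `kos` -/
lemma exists_pow_smul_kos_eq_zero (fs : List A) (X : DRing.Cx A) (g : A) (hg : g ∈ fs) :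
    ∃ N : ℕ, (g ^ N) • 𝟙 (Q.obj (kos fs X) : Dual.D A) = 0 := by
  induction fs with
  | nil => exact absurd hg (List.not_mem_nil)
  | cons f fs ih =>
    obtain ⟨β, γ, hT⟩ := exists_distTriang_cone_smul f (kos fs X)
    rcases List.mem_cons.1 hg with rfl | hg'
    · refine ⟨2, ?_⟩
      rw [pow_two]
      exact sq_smul_cone_eq_zero g β γ hT
    · obtain ⟨N, hN⟩ := ih hg'
      refine ⟨N + N, ?_⟩
      rw [pow_add]
      exact sq_smul_eq_zero_of_smul_eq_zero (g ^ N) _ β γ hT hN

/-- derived completeness passes to the third vertex of a distinguished triangle -/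
lemma isDerivedComplete_obj₃ (I : Ideal A) (T : Triangle (Dual.D A))
    (hT : T ∈ distTriang (Dual.D A)) (h1 : DRing.IsDerivedComplete I T.obj₁)
    (h2 : DRing.IsDerivedComplete I T.obj₂) : DRing.IsDerivedComplete I T.obj₃ :=
  isDerivedComplete_of_distTriang₃ I T hT h1 h2

/-- derived completeness of `kos` -/
lemma isDerivedComplete_kos (I : Ideal A) (fs : List A) (X : DRing.Cx A)
    (hX : DRing.IsDerivedComplete I (Q.obj X : Dual.D A)) :
    DRing.IsDerivedComplete I (Q.obj (kos fs X) : Dual.D A) := by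
  induction fs with
  | nil => exact hX
  | cons f fs ih =>
    obtain ⟨β, γ, hT⟩ := exists_distTriang_cone_smul f (kos fs X)
    exact isDerivedComplete_obj₃ I _ hT ih ih

/-- derived Nakayama, Koszul form: if `kos fs X` is acyclic, all `fs` lie in `I` and `X` is
derived `I`-complete, then `X` is acyclic -/
lemma isZero_of_isZero_kos (I : Ideal A) (fs : List A) (hfs : ∀ f ∈ fs, f ∈ I) (X : DRing.Cx A)
    (hX : DRing.IsDerivedComplete I (Q.obj X : Dual.D A))
    (h0 : IsZero (Q.obj (kos fs X) : Dual.D A)) : IsZero (Q.obj X : Dual.D A) := by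
  induction fs with
  | nil => exact h0
  | cons f fs ih =>
    apply ih (fun g hg => hfs g (List.mem_cons_of_mem _ hg))
    obtain ⟨β, γ, hT⟩ := exists_distTriang_cone_smul f (kos fs X)
    have hiso : IsIso (f • 𝟙 (Q.obj (kos fs X) : Dual.D A)) :=
      (Triangle.isZero₃_iff_isIso₁ _ hT).1 h0
    exact isZero_of_isIso_smul I _ (isDerivedComplete_kos I fs X hX) f
      (hfs f List.mem_cons_self) hiso

end Groth.Agent.Lib.Helper36.DNak
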