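import Mathlib
import Groth.Agent.Lib.Helper36.Nakayama.Kos
import Groth.Agent.Lib.Helper36.LTensorAPI
import Groth.Agent.Lib.Helper12.DRingFlatCone

/-!
# Tensoring a complex with modules; dévissage for derived Nakayama (helper36)

Namespace `Groth.Agent.Lib.Helper36.DNak`.
-/

set_option autoImplicit false
set_option maxHeartbeats 400000
universe u
open CategoryTheory CategoryTheory.Limits CategoryTheory.Pretriangulated DerivedCategory
  CochainComplex MonoidalCategory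
attribute [local instance] HasDerivedCategory.standard

namespace Groth.Agent.Lib.Helper36.DNak

variable {A : Type u} [CommRing A]

/-- the functor `- ⊗ M` on complexes -/
noncomputable abbrev G (M : ModuleCat.{u} A) : DRing.Cx A ⥤ DRing.Cx A :=
  (tensorRight M).mapHomologicalComplex (ComplexShape.up ℤ)

lemma G_map_smul_id (M : ModuleCat.{u} A) (f : A) (Y : DRing.Cx A) :
    (G M).map (f • 𝟙 Y) = f • 𝟙 ((G M).obj Y) := by
  rw [Functor.map_smul, CategoryTheory.Functor.map_id]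

/-- the distinguished triangle of the image under `- ⊗ M` of the cone of a scalar -/
lemma exists_distTriang_G_cone (M : ModuleCat.{u} A) (f : A) (Y : DRing.Cx A) :
    ∃ (β : (Q.obj ((G M).obj Y) : Dual.D A) ⟶ Q.obj ((G M).obj (mappingCone (f • 𝟙 Y))))
      (γ : (Q.obj ((G M).obj (mappingCone (f • 𝟙 Y))) : Dual.D A) ⟶
        (Q.obj ((G M).obj Y))⟦(1 : ℤ)⟧),
      Triangle.mk (f • 𝟙 (Q.obj ((G M).obj Y) : Dual.D A)) β γ ∈ distTriang (Dual.D A) := by
  have h := DerivedCategory.mappingCone_triangle_distinguished ((G M).map (f • 𝟙 Y))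
  let e : (G M).obj (mappingCone (f • 𝟙 Y)) ≅ mappingCone ((G M).map (f • 𝟙 Y)) :=
    mappingCone.mapHomologicalComplexIso (f • 𝟙 Y) (tensorRight M)
  have hfQ : (Q.map ((G M).map (f • 𝟙 Y)) : (Q.obj ((G M).obj Y) : Dual.D A) ⟶ _) =
      f • 𝟙 _ := by
    rw [G_map_smul_id, Functor.map_smul, CategoryTheory.Functor.map_id]
  obtain ⟨u, β, γ, hu, hT⟩ : ∃ (u : (Q.obj ((G M).obj Y) : Dual.D A) ⟶ Q.obj ((G M).obj Y))
      (β : (Q.obj ((G M).obj Y) : Dual.D A) ⟶ Q.obj (mappingCone ((G M).map (f • 𝟙 Y))))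
      (γ : (Q.obj (mappingCone ((G M).map (f • 𝟙 Y))) : Dual.D A) ⟶
        (Q.obj ((G M).obj Y))⟦(1 : ℤ)⟧),
      u = Q.map ((G M).map (f • 𝟙 Y)) ∧ Triangle.mk u β γ ∈ distTriang (Dual.D A) :=
    ⟨_, _, _, rfl, h⟩
  rw [hu, hfQ] at hT
  refine ⟨β ≫ (Q.mapIso e).inv, (Q.mapIso e).hom ≫ γ, ?_⟩
  refine isomorphic_distinguished _ hT _
    (Triangle.isoMk _ _ (Iso.refl _) (Iso.refl _) (Q.mapIso e) ?_ ?_ ?_)
  · change (f • 𝟙 (Q.obj ((G M).obj Y) : Dual.D A)) ≫ 𝟙 _ = 𝟙 _ ≫ (f • 𝟙 _)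
    rw [Category.comp_id, Category.id_comp]
  · change (β ≫ Q.map e.inv) ≫ Q.map e.hom = 𝟙 _ ≫ β
    rw [Category.assoc, ← Functor.map_comp, e.inv_hom_id, CategoryTheory.Functor.map_id,
      Category.comp_id, Category.id_comp]
  · change (Q.map e.hom ≫ γ) ≫ (CategoryTheory.shiftFunctor (Dual.D A) (1 : ℤ)).map (𝟙 _) =
      Q.map e.hom ≫ γ
    rw [CategoryTheory.Functor.map_id, Category.comp_id]

section generic

variable (F : DRing.Cx A → Dual.D A)
  (hF : ∀ (f : A) (Y : DRing.Cx A), ∃ (β : F Y ⟶ F (mappingCone (f • 𝟙 Y)))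
      (γ : F (mappingCone (f • 𝟙 Y)) ⟶ (F Y)⟦(1 : ℤ)⟧),
      Triangle.mk (f • 𝟙 (F Y)) β γ ∈ distTriang (Dual.D A))
include hF

lemma isZero_F_kos (fs : List A) (X : DRing.Cx A) (hX : IsZero (F X)) :
    IsZero (F (kos fs X)) := by
  induction fs with
  | nil => exact hX
  | cons f fs ih =>
    obtain ⟨β, γ, hT⟩ := hF f (kos fs X)
    exact isZero_obj₃_of_isZero _ β γ hT ih

lemma exists_pow_smul_F_kos (fs : List A) (X : DRing.Cx A) (g : A) (hg : g ∈ fs) :
    ∃ N : ℕ, (g ^ N) • 𝟙 (F (kos fs X)) = 0 := by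
  induction fs with
  | nil => exact absurd hg (List.not_mem_nil)
  | cons f fs ih =>
    obtain ⟨β, γ, hT⟩ := hF f (kos fs X)
    rcases List.mem_cons.1 hg with rfl | hg'
    · refine ⟨2, ?_⟩
      rw [pow_two]
      exact Groth.Agent.Lib.Helper36.FCo.sq_smul_cone_eq_zero g β γ hT
    · obtain ⟨N, hN⟩ := ih hg'
      refine ⟨N + N, ?_⟩
      rw [pow_add]
      exact sq_smul_eq_zero_of_smul_eq_zero (g ^ N) _ β γ hT hN

end generic

/-- termwise flatness of `kos` -/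
lemma flat_kos (fs : List A) (X : DRing.Cx A) (hX : ∀ n, Module.Flat A (X.X n)) :
    ∀ n, Module.Flat A ((kos fs X).X n) := by
  induction fs with
  | nil => exact hX
  | cons f fs ih =>
    intro n
    have e : ((mappingCone (f • 𝟙 (kos fs X))).X n) ≃ₗ[A]
        ((kos fs X).X (n + 1) × (kos fs X).X n) :=
      Groth.Agent.Lib.Helper12.mappingConeXEquiv' (f • 𝟙 (kos fs X)) n (n + 1) rfl
    have h1 : Module.Flat A ((kos fs X).X (n + 1)) := ih (n + 1)
    have h2 : Module.Flat A ((kos fs X).X n) := ih n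
    have h3 : Module.Flat A ((kos fs X).X (n + 1) × (kos fs X).X n) :=
      Groth.Agent.Lib.Helper12.flat_prod _ _
    exact @Module.Flat.of_linearEquiv A _ _ _ _ _ _ _ h3 e

end Groth.Agent.Lib.Helper36.DNak
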