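import Mathlib
import Groth.Agent.Lib.Helper36.Nakayama.TensorFunctor

/-!
# Dévissage in the module variable for derived Nakayama (helper36)

Namespace `Groth.Agent.Lib.Helper36.DNak`.
-/

set_option autoImplicit false
set_option maxHeartbeats 400000
universe u
open CategoryTheory CategoryTheory.Limits CategoryTheory.Pretriangulated DerivedCategory
  CochainComplex MonoidalCategory
attribute [local instance] HasDerivedCategory.standard

namespace Groth.Agent.Lib.Helper36.DNak

variable {A : Type u} [CommRing A]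

/-- `P ⊗ M ⟶ P ⊗ N` induced by `φ : M ⟶ N` -/
noncomputable def tmap (P : DRing.Cx A) {M N : ModuleCat.{u} A} (φ : M ⟶ N) :
    (G M).obj P ⟶ (G N).obj P :=
  (NatTrans.mapHomologicalComplex ((tensoringRight (ModuleCat.{u} A)).map φ)
    (ComplexShape.up ℤ)).app P

@[simp] lemma tmap_f (P : DRing.Cx A) {M N : ModuleCat.{u} A} (φ : M ⟶ N) (n : ℤ) :
    (tmap P φ).f n = P.X n ◁ φ := rfl

lemma tmap_comp (P : DRing.Cx A) {M N L : ModuleCat.{u} A} (φ : M ⟶ N) (ψ : N ⟶ L) :
    tmap P (φ ≫ ψ) = tmap P φ ≫ tmap P ψ := by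
  refine HomologicalComplex.hom_ext _ _ (fun n => ?_)
  rw [HomologicalComplex.comp_f, tmap_f, tmap_f, tmap_f, MonoidalCategory.whiskerLeft_comp]
  rfl

lemma tmap_zero (P : DRing.Cx A) (M N : ModuleCat.{u} A) :
    tmap P (0 : M ⟶ N) = 0 := by
  refine HomologicalComplex.hom_ext _ _ (fun n => ?_)
  rw [tmap_f, HomologicalComplex.zero_f, MonoidalPreadditive.whiskerLeft_zero]
  rfl

lemma tmap_smul_id (P : DRing.Cx A) (M : ModuleCat.{u} A) (a : A) :
    tmap P (a • 𝟙 M) = a • 𝟙 _ := by
  refine HomologicalComplex.hom_ext _ _ (fun n => ?_)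
  rw [tmap_f, HomologicalComplex.smul_f_apply, HomologicalComplex.id_f,
    MonoidalLinear.whiskerLeft_smul, MonoidalCategory.whiskerLeft_id]
  rfl

/-- the short exact sequence of complexes induced by a short exact sequence of modules -/
lemma shortExact_tmap (P : DRing.Cx A) (hP : ∀ n, Module.Flat A (P.X n))
    (S : ShortComplex (ModuleCat.{u} A)) (hS : S.ShortExact) :
    (ShortComplex.mk (tmap P S.f) (tmap P S.g)
      (by rw [← tmap_comp, S.zero, tmap_zero])).ShortExact := by
  apply HomologicalComplex.shortExact_of_degreewise_shortExact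
  intro n
  have := hP n
  exact hS.map_of_exact (tensorLeft (P.X n))

lemma isIso_Q_map_tmap_g (P : DRing.Cx A) (hP : ∀ n, Module.Flat A (P.X n))
    (S : ShortComplex (ModuleCat.{u} A)) (hS : S.ShortExact)
    (h : IsZero (Q.obj ((G S.X₁).obj P) : Dual.D A)) :
    IsIso (Q.map (tmap P S.g) : (Q.obj ((G S.X₂).obj P) : Dual.D A) ⟶ _) := by
  have hT := DerivedCategory.triangleOfSES_distinguished (shortExact_tmap P hP S hS)
  exact (Triangle.isZero₁_iff_isIso₂ _ hT).1 h

lemma isIso_Q_map_tmap_f (P : DRing.Cx A) (hP : ∀ n, Module.Flat A (P.X n))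
    (S : ShortComplex (ModuleCat.{u} A)) (hS : S.ShortExact)
    (h : IsZero (Q.obj ((G S.X₃).obj P) : Dual.D A)) :
    IsIso (Q.map (tmap P S.f) : (Q.obj ((G S.X₁).obj P) : Dual.D A) ⟶ _) := by
  have hT := DerivedCategory.triangleOfSES_distinguished (shortExact_tmap P hP S hS)
  exact (Triangle.isZero₃_iff_isIso₁ _ hT).1 h

/-- all elements of the list kill the module -/
def Kills (l : List A) (M : ModuleCat.{u} A) : Prop := ∀ f ∈ l, ∀ m : M, f • m = 0

/-- an object on which a scalar acts both invertibly and nilpotently is zero -/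
lemma isZero_of_isIso_smul_of_pow {K : Dual.D A} (g : A) (hiso : IsIso (g • 𝟙 K)) (N : ℕ)
    (hN : (g ^ N) • 𝟙 K = 0) : IsZero K := by
  have h : ∀ n : ℕ, IsIso ((g ^ n) • 𝟙 K) := by
    intro n
    induction n with
    | zero =>
      rw [pow_zero, one_smul]
      infer_instance
    | succ n ih =>
      have e : (g ^ (n + 1)) • 𝟙 K = ((g ^ n) • 𝟙 K) ≫ (g • 𝟙 K) := by
        rw [Linear.smul_comp, Linear.comp_smul, Category.comp_id, smul_smul, pow_succ]
      rw [e]
      infer_instance
  have hz := h N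
  rw [hN] at hz
  rw [IsZero.iff_id_eq_zero]
  have := IsIso.hom_inv_id (0 : K ⟶ K)
  rw [zero_comp] at this
  exact this.symm

section step

variable (P : DRing.Cx A) (hP : ∀ n, Module.Flat A (P.X n))
include hP

/-- one step of the dévissage -/
lemma step (g : A) (l : List A)
    (hnil : ∀ M : ModuleCat.{u} A, ∃ N : ℕ, (g ^ N) • 𝟙 (Q.obj ((G M).obj P) : Dual.D A) = 0)
    (H : ∀ M : ModuleCat.{u} A, Kills (g :: l) M → IsZero (Q.obj ((G M).obj P) : Dual.D A))
    (M : ModuleCat.{u} A) (hM : Kills l M) : IsZero (Q.obj ((G M).obj P) : Dual.D A) := by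
  let φ : M →ₗ[A] M := LinearMap.lsmul A M g
  have hφ : ∀ m : M, φ m = g • m := fun m => rfl
  let S₁ : ShortComplex (ModuleCat.{u} A) :=
    ShortComplex.mk (ModuleCat.ofHom (LinearMap.ker φ).subtype) (ModuleCat.ofHom φ.rangeRestrict)
      (by
        ext x
        exact LinearMap.mem_ker.1 x.2)
  have hS₁ : S₁.ShortExact := by
    refine ModuleCat.shortComplex_shortExact S₁ ?_ (Submodule.injective_subtype _)
      (LinearMap.surjective_rangeRestrict φ)
    intro y
    constructor
    · intro hy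
      have hy' : φ y = 0 := congrArg Subtype.val hy
      exact ⟨⟨y, LinearMap.mem_ker.2 hy'⟩, rfl⟩
    · rintro ⟨x, rfl⟩
      apply Subtype.ext
      exact LinearMap.mem_ker.1 x.2
  let S₂ : ShortComplex (ModuleCat.{u} A) :=
    ShortComplex.mk (ModuleCat.ofHom (LinearMap.range φ).subtype)
      (ModuleCat.ofHom (LinearMap.range φ).mkQ)
      (by
        ext x
        exact (Submodule.Quotient.mk_eq_zero _).2 x.2)
  have hS₂ : S₂.ShortExact := by
    refine ModuleCat.shortComplex_shortExact S₂ ?_ (Submodule.injective_subtype _)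
      (Submodule.mkQ_surjective _)
    intro y
    constructor
    · intro hy
      have hy' : y ∈ LinearMap.range φ := (Submodule.Quotient.mk_eq_zero _).1 hy
      exact ⟨⟨y, hy'⟩, rfl⟩
    · rintro ⟨x, rfl⟩
      exact (Submodule.Quotient.mk_eq_zero _).2 x.2
  have hcomp : S₁.g ≫ S₂.f = g • 𝟙 M := by
    ext x
    rfl
  have hK₁ : Kills (g :: l) S₁.X₁ := by
    intro f hf m
    apply Subtype.ext
    rcases List.mem_cons.1 hf with rfl | hf'
    · exact m.2
    · exact hM f hf' m.1
  have hK₂ : Kills (g :: l) S₂.X₃ := by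
    intro f hf m
    obtain ⟨m, rfl⟩ := Submodule.mkQ_surjective _ m
    rcases List.mem_cons.1 hf with rfl | hf'
    · exact (Submodule.Quotient.mk_eq_zero _).2 ⟨m, rfl⟩
    · have : f • m = 0 := hM f hf' m
      rw [← map_smul, this, map_zero]
  have h1 := isIso_Q_map_tmap_g P hP S₁ hS₁ (H _ hK₁)
  have h2 := isIso_Q_map_tmap_f P hP S₂ hS₂ (H _ hK₂)
  have h3 : (g • 𝟙 (Q.obj ((G M).obj P) : Dual.D A)) =
      Q.map (tmap P S₁.g) ≫ Q.map (tmap P S₂.f) := by
    rw [← Functor.map_comp, ← tmap_comp, hcomp, tmap_smul_id, Functor.map_smul,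
      CategoryTheory.Functor.map_id]
  have h4 : IsIso (g • 𝟙 (Q.obj ((G M).obj P) : Dual.D A)) := by
    rw [h3]
    infer_instance
  obtain ⟨N, hN⟩ := hnil M
  exact isZero_of_isIso_smul_of_pow g h4 N hN

/-- peeling off a list of nilpotently acting elements -/
lemma peel (l₁ : List A) : ∀ (l₂ : List A),
    (∀ g ∈ l₁, ∀ M : ModuleCat.{u} A,
      ∃ N : ℕ, (g ^ N) • 𝟙 (Q.obj ((G M).obj P) : Dual.D A) = 0) →
    (∀ M : ModuleCat.{u} A, Kills (l₁ ++ l₂) M → IsZero (Q.obj ((G M).obj P) : Dual.D A)) →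
    ∀ M : ModuleCat.{u} A, Kills l₂ M → IsZero (Q.obj ((G M).obj P) : Dual.D A) := by
  induction l₁ with
  | nil =>
    intro l₂ _ H M hM
    exact H M (by simpa using hM)
  | cons g l₁ ih =>
    intro l₂ hnil H M hM
    apply ih l₂ (fun g' hg' => hnil g' (List.mem_cons_of_mem _ hg')) _ M hM
    intro M' hM'
    exact step P hP g (l₁ ++ l₂) (hnil g List.mem_cons_self) H M' hM'

end step

end Groth.Agent.Lib.Helper36.DNak
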