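import Mathlib
import Groth.Agent.Lib.Helper36.Nakayama.Devissage

/-!
# Base case of the dévissage for derived Nakayama (helper36)

Namespace `Groth.Agent.Lib.Helper36.DNak`.
-/

set_option autoImplicit false
set_option maxHeartbeats 400000
universe u
open CategoryTheory CategoryTheory.Limits CategoryTheory.Pretriangulated DerivedCategory
  CochainComplex MonoidalCategory
attribute [local instance] HasDerivedCategory.standard

namespace Groth.Agent.Lib.Helper36.DNak

variable {A : Type u} [CommRing A]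

/-- `P ⟶ P ⊗ N` induced by `π : A ⟶ N` -/
noncomputable def iotaCx (P : DRing.Cx A) {N : ModuleCat.{u} A} (π : 𝟙_ (ModuleCat.{u} A) ⟶ N) :
    P ⟶ (G N).obj P where
  f n := (ρ_ (P.X n)).inv ≫ (P.X n ◁ π)
  comm' i j _ := by
    change ((ρ_ (P.X i)).inv ≫ (P.X i ◁ π)) ≫ (P.d i j ▷ N) =
      P.d i j ≫ (ρ_ (P.X j)).inv ≫ (P.X j ◁ π)
    rw [Category.assoc, whisker_exchange, ← Category.assoc, ← Category.assoc,
      rightUnitor_inv_naturality]

/-- `(P ⊗ N) ⊗ M ⟶ P ⊗ M` induced by `act : N ⊗ M ⟶ M` -/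
noncomputable def nuCx (P : DRing.Cx A) {N M : ModuleCat.{u} A} (act : N ⊗ M ⟶ M) :
    (G M).obj ((G N).obj P) ⟶ (G M).obj P where
  f n := (α_ (P.X n) N M).hom ≫ (P.X n ◁ act)
  comm' i j _ := by
    change ((α_ (P.X i) N M).hom ≫ (P.X i ◁ act)) ≫ (P.d i j ▷ M) =
      ((P.d i j ▷ N) ▷ M) ≫ (α_ (P.X j) N M).hom ≫ (P.X j ◁ act)
    rw [Category.assoc, whisker_exchange, ← Category.assoc, ← associator_naturality_left,
      Category.assoc]

lemma map_iotaCx_nuCx (P : DRing.Cx A) {N M : ModuleCat.{u} A} (π : 𝟙_ (ModuleCat.{u} A) ⟶ N)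
    (act : N ⊗ M ⟶ M) (h : (π ▷ M) ≫ act = (λ_ M).hom) :
    (G M).map (iotaCx P π) ≫ nuCx P act = 𝟙 _ := by
  refine HomologicalComplex.hom_ext _ _ (fun n => ?_)
  change (((ρ_ (P.X n)).inv ≫ (P.X n ◁ π)) ▷ M) ≫ (α_ (P.X n) N M).hom ≫ (P.X n ◁ act) = 𝟙 _
  rw [comp_whiskerRight, Category.assoc, associator_naturality_middle_assoc,
    ← MonoidalCategory.whiskerLeft_comp, h, triangle, ← comp_whiskerRight, Iso.inv_hom_id,
    id_whiskerRight]

/-- base case: if `P ⊗ A/I` is acyclic for a K-projective `P`, then so is `P ⊗ M` for every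
module `M` killed by `I` -/
theorem isZero_Q_G_of_kills (I : Ideal A) (P : DRing.Cx A) [P.IsKProjective]
    (h0 : IsZero (Q.obj ((G (ModuleCat.of A (A ⧸ I))).obj P) : Dual.D A))
    (M : ModuleCat.{u} A) (hM : ∀ a ∈ I, ∀ m : M, a • m = 0) :
    IsZero (Q.obj ((G M).obj P) : Dual.D A) := by
  let N : ModuleCat.{u} A := ModuleCat.of A (A ⧸ I)
  let π : 𝟙_ (ModuleCat.{u} A) ⟶ N := ModuleCat.ofHom (Submodule.mkQ I)
  have hle : I ≤ LinearMap.ker (LinearMap.lsmul A M) := by
    intro a ha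
    rw [LinearMap.mem_ker]
    ext m
    exact hM a ha m
  let act : N ⊗ M ⟶ M :=
    ModuleCat.ofHom (TensorProduct.lift (Submodule.liftQ I (LinearMap.lsmul A M) hle))
  have hact : (π ▷ M) ≫ act = (λ_ M).hom := by
    apply ModuleCat.MonoidalCategory.tensor_ext
    intro a m
    change TensorProduct.lift (Submodule.liftQ I (LinearMap.lsmul A M) hle)
      ((Submodule.mkQ I a) ⊗ₜ[A] m) = _
    rw [TensorProduct.lift.tmul]
    rfl
  have hacyc : ((G N).obj P).Acyclic :=
    fun i => Groth.Agent.Lib.Helper12.exactAt_of_isZero_toD _ h0 i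
  obtain ⟨hι⟩ := IsKProjective.nonempty_homotopy_zero (iotaCx P π) hacyc
  have h1 : (Q.map ((G M).map (iotaCx P π)) : (Q.obj ((G M).obj P) : Dual.D A) ⟶ _) = 0 := by
    have := DerivedCategory.Q_map_eq_of_homotopy _ ((tensorRight M).mapHomotopy hι)
    rw [this, Functor.map_zero, Functor.map_zero]
  rw [IsZero.iff_id_eq_zero, ← Q.map_id, ← map_iotaCx_nuCx P π act hact, Functor.map_comp, h1,
    zero_comp]

end Groth.Agent.Lib.Helper36.DNak
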