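import Mathlib
import Groth.Agent.Lib.Helper36.Nakayama.Base
import Groth.Agent.Lib.Helper36.NilpotentTor
import Groth.Agent.Lib.Helper36.BaseChangeKProj
import Groth.Agent.Lib.Helper36.HasLeftDerived
import Groth.Agent.Lib.Helper12.DerivedSingleHom

/-!
# Amplitude version of derived Nakayama (helper36)

Namespace `Groth.Agent.Lib.Helper36.DNak`.
-/

set_option autoImplicit false
set_option maxHeartbeats 400000
universe u
open CategoryTheory CategoryTheory.Limits CategoryTheory.Pretriangulated DerivedCategory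
  CochainComplex MonoidalCategory
attribute [local instance] HasDerivedCategory.standard

namespace Groth.Agent.Lib.Helper36.DNak

open Groth.Agent.Lib.Helper12 Groth.Agent.Lib.Helper36.KP Groth.Agent.Lib.Helper36.LT

variable {A : Type u} [CommRing A]

/-- right t-exactness of the derived tensor product with a module -/
theorem subsingleton_HD_lTensor_of_le (M : ModuleCat.{u} A) [DRing.HasLTensor A M]
    (K : Dual.D A) (h : ∀ i : ℤ, 0 < i → Subsingleton (Dual.HD A K i)) :
    ∀ i : ℤ, 0 < i → Subsingleton (Dual.HD A ((DRing.LTensor A M).obj K) i) := by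
  intro i hi
  let X := Q.objPreimage K
  let e : Q.obj X ≅ K := Q.objObjPreimageIso K
  have hLE : X.IsLE 0 := by
    rw [CochainComplex.isLE_iff]
    intro j hj
    apply exactAt_of_isZero_HF X j
    have := h j hj
    exact (ModuleCat.isZero_of_subsingleton _).of_iso ((HF A j).mapIso e)
  have hqi : QuasiIso (X.ιTruncLE 0) := (X.quasiIso_ιTruncLE_iff 0).mpr hLE
  have hiso : IsIso (Q.map (X.ιTruncLE 0)) :=
    (DerivedCategory.isIso_Q_map_iff_quasiIso _ (X.ιTruncLE 0)).mpr hqi
  obtain ⟨P, p, hp, hP, hproj, hvan⟩ := exists_resolution_above (X.truncLE 0) 0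
    (fun n hn => (X.truncLE 0).isZero_of_isStrictlyLE 0 n hn)
  have hiso' : IsIso (Q.map p) := (DerivedCategory.isIso_Q_map_iff_quasiIso _ p).mpr hp
  let eK : Q.obj P ≅ K := asIso (Q.map p) ≪≫ asIso (Q.map (X.ιTruncLE 0)) ≪≫ e
  exact subsingleton_HD_lTensor_of_flat M P 0 hvan (fun n => by
    have := hproj n
    infer_instance) eK i (hvan i hi)

section unbundled

open TensorProduct

variable {S : Type*} [CommRing S] (B' : Type*) [CommRing B'] [Algebra S B']
  {T : Type*} [AddCommGroup T] [Module S T] (e : T ≃ₗ[S] B')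
  {X Y Z : Type*} [AddCommGroup X] [Module S X] [AddCommGroup Y] [Module S Y]
  [AddCommGroup Z] [Module S Z]

include e in
/-- exactness of the base change from exactness of the tensor product with an isomorphic module -/
lemma exact_baseChange_of_exact_rTensor (d₁ : X →ₗ[S] Y) (d₂ : Y →ₗ[S] Z)
    (h : Function.Exact (d₁.rTensor T) (d₂.rTensor T)) :
    Function.Exact (d₁.baseChange B') (d₂.baseChange B') := by
  rw [LinearMap.baseChange_eq_ltensor, LinearMap.baseChange_eq_ltensor]
  refine Function.Exact.of_ladder_linearEquiv_of_exact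
    (e₁ := (e.lTensor X).trans (TensorProduct.comm S X B'))
    (e₂ := (e.lTensor Y).trans (TensorProduct.comm S Y B'))
    (e₃ := (e.lTensor Z).trans (TensorProduct.comm S Z B')) ?_ ?_ h
  · ext x t
    simp
  · ext x t
    simp

end unbundled

section base

variable (I : Ideal A)

/-- the standard `A`-module `A ⧸ I` is the restriction of scalars of the unit `A ⧸ I`-module -/
noncomputable def quotEquivRestrict :
    (A ⧸ I) ≃ₗ[A] ((ModuleCat.restrictScalars (Ideal.Quotient.mk I)).obj
      (ModuleCat.of (A ⧸ I) (A ⧸ I))) where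
  toFun x := x
  invFun x := x
  map_add' _ _ := rfl
  map_smul' a x := by
    obtain ⟨y, rfl⟩ := Ideal.Quotient.mk_surjective x
    rfl
  left_inv _ := rfl
  right_inv _ := rfl

/-- exactness of the extension of scalars to `A ⧸ I` from exactness of `- ⊗ A ⧸ I` -/
lemma exactAt_extendScalars_of_exactAt_G (P : DRing.Cx A) (j : ℤ)
    (h : ((G (ModuleCat.of A (A ⧸ I))).obj P).ExactAt j) :
    (((ModuleCat.extendScalars.{u, u, u} (Ideal.Quotient.mk I)).mapHomologicalComplex
      (ComplexShape.up ℤ)).obj P).ExactAt j := by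
  have h1 := (Groth.Agent.Lib.Helper36.NilTor.exactAt_tensorCx_iff P
    (ModuleCat.of A (A ⧸ I)) j).1 h
  rw [ModuleCat.hom_whiskerRight, ModuleCat.hom_whiskerRight] at h1
  rw [HomologicalComplex.exactAt_iff' _ (j - 1) j (j + 1) (by simp) (by simp),
    ShortComplex.ShortExact.moduleCat_exact_iff_function_exact]
  exact @exact_baseChange_of_exact_rTensor A _ (A ⧸ I) _ (Ideal.Quotient.mk I).toAlgebra
    (A ⧸ I) _ _ (quotEquivRestrict I) _ _ _ _ _ _ _ _ _ (P.d (j - 1) j).hom (P.d j (j + 1)).hom h1

/-- base case with amplitude: if `P ⊗ A/I` is exact in positive degrees for a K-projective `P`,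
then so is `P ⊗ M` for every module `M` killed by `I` -/
theorem exactAt_G_of_kills (P : DRing.Cx A) [P.IsKProjective]
    (h0 : ∀ i : ℤ, 0 < i → ((G (ModuleCat.of A (A ⧸ I))).obj P).ExactAt i)
    (M : ModuleCat.{u} A) (hM : ∀ a ∈ I, ∀ m : M, a • m = 0) :
    ∀ i : ℤ, 0 < i → ((G M).obj P).ExactAt i := by
  intro i hi
  let φ := Ideal.Quotient.mk I
  let E : DRing.Cx (A ⧸ I) := ((ModuleCat.extendScalars.{u, u, u} φ).mapHomologicalComplex
    (ComplexShape.up ℤ)).obj P
  have hE : CochainComplex.IsKProjective E := Groth.Agent.Lib.Helper36.BCKP.isKProjective_extendScalars φ P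
  have hEH : ∀ j : ℤ, 0 < j → Subsingleton (Dual.HD (A ⧸ I) (Q.obj E) j) := by
    intro j hj
    have h1 : E.ExactAt j := exactAt_extendScalars_of_exactAt_G I P j (h0 j hj)
    rw [HomologicalComplex.exactAt_iff_isZero_homology] at h1
    exact ModuleCat.subsingleton_of_isZero (h1.of_iso (HFQIso j E))
  obtain ⟨MB, ⟨e⟩⟩ := Groth.Agent.Lib.Helper36.NilTor.exists_restrictScalars_equiv φ
    Ideal.Quotient.mk_surjective M (by
      intro x hx m
      rw [Ideal.mk_ker] at hx
      exact hM x hx m)
  have := LT.hasLTensor (A ⧸ I) MB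
  have h2 := subsingleton_HD_lTensor_of_le MB (Q.obj E) hEH i hi
  have h3 : (tensorCx MB E).ExactAt i :=
    exactAt_tensorCx_of_subsingleton MB E (Iso.refl _) i h2
  rw [Groth.Agent.Lib.Helper36.NilTor.exactAt_tensorCx_iff] at h3
  have h4 := (Groth.Agent.Lib.Helper36.CBC.exact_whiskerRight_extendScalars_iff φ MB
    (P.d (i - 1) i) (P.d i (i + 1))).mp h3
  rw [ModuleCat.hom_whiskerRight, ModuleCat.hom_whiskerRight] at h4
  have h5 := Groth.Agent.Lib.Helper36.NilTor.exact_rTensor_congr e _ _ h4
  show (tensorCx M P).ExactAt i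
  rw [Groth.Agent.Lib.Helper36.NilTor.exactAt_tensorCx_iff, ModuleCat.hom_whiskerRight,
    ModuleCat.hom_whiskerRight]
  exact h5

end base

end Groth.Agent.Lib.Helper36.DNak
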