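import Mathlib
import Groth.Agent.Lib.Helper36.Nakayama.Amplitude

/-!
# Amplitude dévissage for derived Nakayama (helper36)

Namespace `Groth.Agent.Lib.Helper36.DNak`.
-/

set_option autoImplicit false
set_option maxHeartbeats 400000
universe u
open CategoryTheory CategoryTheory.Limits CategoryTheory.Pretriangulated DerivedCategory
  CochainComplex MonoidalCategory
attribute [local instance] HasDerivedCategory.standard

namespace Groth.Agent.Lib.Helper36.DNak

open Groth.Agent.Lib.Helper12 Groth.Agent.Lib.Helper36.KP Groth.Agent.Lib.Helper36.LT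
  Groth.Agent.Lib.Helper36.DC Groth.Agent.Lib.Helper36.DCF

variable {A : Type u} [CommRing A]

/-- third vertex: vanishing of cohomology in positive degrees -/
lemma isZero_HF_obj₃ {G' C : Dual.D A} (u : G' ⟶ G') (β : G' ⟶ C) (γ : C ⟶ G'⟦(1 : ℤ)⟧)
    (hT : Triangle.mk u β γ ∈ distTriang (Dual.D A))
    (h : ∀ i : ℤ, 0 < i → IsZero ((HF A i).obj G')) :
    ∀ i : ℤ, 0 < i → IsZero ((HF A i).obj C) := by
  intro i hi
  have hex := HomologySequence.exact₃ _ hT i (i + 1) rfl
  exact hex.isZero_X₂ ((h i hi).eq_of_src _ _) ((h (i + 1) (by omega)).eq_of_tgt _ _)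

section generic

variable (F : DRing.Cx A → Dual.D A)
  (hF : ∀ (f : A) (Y : DRing.Cx A), ∃ (β : F Y ⟶ F (mappingCone (f • 𝟙 Y)))
      (γ : F (mappingCone (f • 𝟙 Y)) ⟶ (F Y)⟦(1 : ℤ)⟧),
      Triangle.mk (f • 𝟙 (F Y)) β γ ∈ distTriang (Dual.D A))
include hF

lemma isZero_HF_F_kos (fs : List A) (X : DRing.Cx A)
    (hX : ∀ i : ℤ, 0 < i → IsZero ((HF A i).obj (F X))) :
    ∀ i : ℤ, 0 < i → IsZero ((HF A i).obj (F (kos fs X))) := by
  induction fs with
  | nil => exact hX
  | cons f fs ih =>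
    obtain ⟨β, γ, hT⟩ := hF f (kos fs X)
    exact isZero_HF_obj₃ _ β γ hT ih

end generic

/-- descent of the amplitude bound along `kos` for derived complete complexes -/
lemma isZero_HF_of_isZero_HF_kos (I : Ideal A) (fs : List A) (hfs : ∀ f ∈ fs, f ∈ I)
    (X : DRing.Cx A) (hX : DRing.IsDerivedComplete I (Q.obj X : Dual.D A))
    (h0 : ∀ i : ℤ, 0 < i → IsZero ((HF A i).obj (Q.obj (kos fs X) : Dual.D A))) :
    ∀ i : ℤ, 0 < i → IsZero ((HF A i).obj (Q.obj X : Dual.D A)) := by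
  induction fs with
  | nil => exact h0
  | cons f fs ih =>
    apply ih (fun g hg => hfs g (List.mem_cons_of_mem _ hg))
    intro i hi
    obtain ⟨β, γ, hT⟩ := exists_distTriang_cone_smul f (kos fs X)
    have hepi : Epi ((HF A i).map (f • 𝟙 (Q.obj (kos fs X) : Dual.D A))) :=
      (HomologySequence.epi_homologyMap_mor₁_iff _ hT i).2 ((h0 i hi).eq_of_tgt _ _)
    rw [Functor.map_smul, CategoryTheory.Functor.map_id] at hepi
    have hsurj : Function.Surjective
        (fun x : Dual.HD A (Q.obj (kos fs X) : Dual.D A) i => f • x) := by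
      intro y
      obtain ⟨x, hx⟩ := (ModuleCat.epi_iff_surjective _).1 hepi y
      exact ⟨x, hx⟩
    have hc : SeqComplete f (Dual.HD A (Q.obj (kos fs X) : Dual.D A) i) :=
      (isDerivedComplete_iff_HD I _).mp (isDerivedComplete_kos I fs X hX) f
        (hfs f List.mem_cons_self) i
    have := subsingleton_of_surjective_smul hc hsurj
    exact ModuleCat.isZero_of_subsingleton _

/-- the two short exact sequences attached to multiplication by `g` on a module -/
lemma exists_ses_smul (g : A) (l : List A) (M : ModuleCat.{u} A) (hM : Kills l M) :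
    ∃ (K R C : ModuleCat.{u} A) (i₁ : K ⟶ M) (p₁ : M ⟶ R) (i₂ : R ⟶ M) (p₂ : M ⟶ C)
      (w₁ : i₁ ≫ p₁ = 0) (w₂ : i₂ ≫ p₂ = 0),
      (ShortComplex.mk i₁ p₁ w₁).ShortExact ∧ (ShortComplex.mk i₂ p₂ w₂).ShortExact ∧
        p₁ ≫ i₂ = g • 𝟙 M ∧ Kills (g :: l) K ∧ Kills (g :: l) C := by
  let φ : M →ₗ[A] M := LinearMap.lsmul A M g
  let S₁ : ShortComplex (ModuleCat.{u} A) :=
    ShortComplex.mk (ModuleCat.ofHom (LinearMap.ker φ).subtype) (ModuleCat.ofHom φ.rangeRestrict)
      (by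
        ext x
        exact LinearMap.mem_ker.1 x.2)
  have hS₁ : S₁.ShortExact := by
    refine ModuleCat.shortComplex_shortExact S₁ ?_ (Submodule.injective_subtype _)
      (LinearMap.surjective_rangeRestrict φ)
    intro y
    constructor
    · intro hy
      have hy' : φ y = 0 := congrArg Subtype.val hy
      exact ⟨⟨y, LinearMap.mem_ker.2 hy'⟩, rfl⟩
    · rintro ⟨x, rfl⟩
      apply Subtype.ext
      exact LinearMap.mem_ker.1 x.2
  let S₂ : ShortComplex (ModuleCat.{u} A) :=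
    ShortComplex.mk (ModuleCat.ofHom (LinearMap.range φ).subtype)
      (ModuleCat.ofHom (LinearMap.range φ).mkQ)
      (by
        ext x
        exact (Submodule.Quotient.mk_eq_zero _).2 x.2)
  have hS₂ : S₂.ShortExact := by
    refine ModuleCat.shortComplex_shortExact S₂ ?_ (Submodule.injective_subtype _)
      (Submodule.mkQ_surjective _)
    intro y
    constructor
    · intro hy
      have hy' : y ∈ LinearMap.range φ := (Submodule.Quotient.mk_eq_zero _).1 hy
      exact ⟨⟨y, hy'⟩, rfl⟩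
    · rintro ⟨x, rfl⟩
      exact (Submodule.Quotient.mk_eq_zero _).2 x.2
  have hcomp : S₁.g ≫ S₂.f = g • 𝟙 M := by
    ext x
    rfl
  have hK₁ : Kills (g :: l) S₁.X₁ := by
    intro f hf m
    apply Subtype.ext
    rcases List.mem_cons.1 hf with rfl | hf'
    · exact m.2
    · exact hM f hf' m.1
  have hK₂ : Kills (g :: l) S₂.X₃ := by
    intro f hf m
    obtain ⟨m, rfl⟩ := Submodule.mkQ_surjective _ m
    rcases List.mem_cons.1 hf with rfl | hf'
    · exact (Submodule.Quotient.mk_eq_zero _).2 ⟨m, rfl⟩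
    · have : f • m = 0 := hM f hf' m
      rw [← map_smul, this, map_zero]
  exact ⟨S₁.X₁, S₁.X₃, S₂.X₃, S₁.f, S₁.g, S₂.f, S₂.g, S₁.zero, S₂.zero, hS₁, hS₂, hcomp, hK₁, hK₂⟩

/-- a module on which a scalar acts both surjectively and nilpotently is zero -/
lemma isZero_of_epi_smul_of_pow {X : ModuleCat.{u} A} (g : A) (hepi : Epi (g • 𝟙 X)) (N : ℕ)
    (hN : (g ^ N) • 𝟙 X = 0) : IsZero X := by
  have h : ∀ n : ℕ, Epi ((g ^ n) • 𝟙 X) := by
    intro n
    induction n with
    | zero =>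
      rw [pow_zero, one_smul]
      infer_instance
    | succ n ih =>
      have e : (g ^ (n + 1)) • 𝟙 X = ((g ^ n) • 𝟙 X) ≫ (g • 𝟙 X) := by
        rw [Linear.smul_comp, Linear.comp_smul, Category.comp_id, smul_smul, pow_succ]
      rw [e]
      exact epi_comp _ _
  have hz := h N
  exact IsZero.of_epi_eq_zero _ hN

section step

variable (P : DRing.Cx A) (hP : ∀ n, Module.Flat A (P.X n))
include hP

/-- one step of the dévissage, amplitude version -/
lemma step' (g : A) (l : List A)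
    (hnil : ∀ M : ModuleCat.{u} A, ∃ N : ℕ, (g ^ N) • 𝟙 (Q.obj ((G M).obj P) : Dual.D A) = 0)
    (H : ∀ M : ModuleCat.{u} A, Kills (g :: l) M →
      ∀ i : ℤ, 0 < i → IsZero ((HF A i).obj (Q.obj ((G M).obj P) : Dual.D A)))
    (M : ModuleCat.{u} A) (hM : Kills l M) :
    ∀ i : ℤ, 0 < i → IsZero ((HF A i).obj (Q.obj ((G M).obj P) : Dual.D A)) := by
  intro i hi
  obtain ⟨K, R, C, i₁, p₁, i₂, p₂, w₁, w₂, hS₁, hS₂, hcomp, hK, hC⟩ := exists_ses_smul g l M hM
  have hT₁ := DerivedCategory.triangleOfSES_distinguished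
    (shortExact_tmap P hP (ShortComplex.mk i₁ p₁ w₁) hS₁)
  have hT₂ := DerivedCategory.triangleOfSES_distinguished
    (shortExact_tmap P hP (ShortComplex.mk i₂ p₂ w₂) hS₂)
  have h1 : Epi ((HF A i).map (Q.map (tmap P p₁) : (Q.obj ((G M).obj P) : Dual.D A) ⟶ _)) :=
    (HomologySequence.epi_homologyMap_mor₂_iff _ hT₁ i (i + 1) rfl).2
      ((H K hK (i + 1) (by omega)).eq_of_tgt _ _)
  have h2 : Epi ((HF A i).map (Q.map (tmap P i₂) : (Q.obj ((G R).obj P) : Dual.D A) ⟶ _)) :=
    (HomologySequence.epi_homologyMap_mor₁_iff _ hT₂ i).2 ((H C hC i hi).eq_of_tgt _ _)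
  have h3 : (g • 𝟙 ((HF A i).obj (Q.obj ((G M).obj P) : Dual.D A))) =
      (HF A i).map (Q.map (tmap P p₁)) ≫ (HF A i).map (Q.map (tmap P i₂)) := by
    rw [← Functor.map_comp, ← Functor.map_comp, ← tmap_comp, hcomp, tmap_smul_id,
      Functor.map_smul, CategoryTheory.Functor.map_id, Functor.map_smul,
      CategoryTheory.Functor.map_id]
  have h4 : Epi (g • 𝟙 ((HF A i).obj (Q.obj ((G M).obj P) : Dual.D A))) := by
    rw [h3]
    exact epi_comp _ _
  obtain ⟨N, hN⟩ := hnil M
  have hN' : (g ^ N) • 𝟙 ((HF A i).obj (Q.obj ((G M).obj P) : Dual.D A)) = 0 := by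
    have := congrArg (fun t => (HF A i).map t) hN
    simpa [Functor.map_smul] using this
  exact isZero_of_epi_smul_of_pow g h4 N hN'

/-- peeling off a list of nilpotently acting elements, amplitude version -/
lemma peel' (l₁ : List A) : ∀ (l₂ : List A),
    (∀ g ∈ l₁, ∀ M : ModuleCat.{u} A,
      ∃ N : ℕ, (g ^ N) • 𝟙 (Q.obj ((G M).obj P) : Dual.D A) = 0) →
    (∀ M : ModuleCat.{u} A, Kills (l₁ ++ l₂) M →
      ∀ i : ℤ, 0 < i → IsZero ((HF A i).obj (Q.obj ((G M).obj P) : Dual.D A))) →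
    ∀ M : ModuleCat.{u} A, Kills l₂ M →
      ∀ i : ℤ, 0 < i → IsZero ((HF A i).obj (Q.obj ((G M).obj P) : Dual.D A)) := by
  induction l₁ with
  | nil =>
    intro l₂ _ H M hM
    exact H M (by simpa using hM)
  | cons g l₁ ih =>
    intro l₂ hnil H M hM
    apply ih l₂ (fun g' hg' => hnil g' (List.mem_cons_of_mem _ hg')) _ M hM
    intro M' hM'
    exact step' P hP g (l₁ ++ l₂) (hnil g List.mem_cons_self) H M' hM'

end step

end Groth.Agent.Lib.Helper36.DNak
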